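import Cfsg.Agent.Lib.SectRank.Basic
import Cfsg.Agent.Lib.CD.Basic
import Cfsg.Agent.Lib.Coprime.Basic

/-!
# 2-groups with a four-group of involutions with small centralisers

If `T` is elementary abelian of order 16 and a four-subgroup `B` of `T` has all its involutions
self-centralised by `T` in the 2-group `S`, then `|S| ≤ 128` and all elementary sections of `S`
have order at most 16.
-/

set_option autoImplicit false

namespace Cfsg.Agent.Lib.FourCentralizer

open Subgroup
open Cfsg.Agent.Lib.SectRank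
open scoped Pointwise

variable {G : Type*} [Group G] [Finite G]

theorem card_mul_card_le (A B K : Subgroup G) (hA : A ≤ K) (hB : B ≤ K) :
    Nat.card A * Nat.card B ≤ Nat.card K * Nat.card ↥(A ⊓ B) := by
  rw [← CD.card_setMul_mul_card_inf A B]
  refine Nat.mul_le_mul_right _ ?_
  refine Nat.card_mono (K : Set G).toFinite ?_
  rintro _ ⟨a, ha, b, hb, rfl⟩
  exact K.mul_mem (hA ha) (hB hb)

theorem exists_mem_inf_ne_one {A B : Subgroup G} (h : 1 < Nat.card ↥(A ⊓ B)) :
    ∃ b ∈ B, b ∈ A ∧ b ≠ 1 := by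
  have hne : A ⊓ B ≠ ⊥ := fun he => by rw [he, Subgroup.card_bot] at h; omega
  obtain ⟨b, hb, hb1⟩ := (Subgroup.bot_or_exists_ne_one _).resolve_left hne
  exact ⟨b, hb.2, hb.1, hb1⟩

/-- The fixed points of an involutory conjugation on an elementary abelian group. -/
theorem sq_card_fixed (V : Subgroup G) (hV : ∀ v ∈ V, v * v = 1)
    (hVc : ∀ v ∈ V, ∀ w ∈ V, v * w = w * v) (s : G) (hs : ∀ v ∈ V, s * v * s⁻¹ ∈ V)
    (hs2 : ∀ v ∈ V, s * s * v = v * (s * s)) :
    Nat.card V ≤ Nat.card ↥(V ⊓ centralizer ({s} : Set G)) ^ 2 := by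
  classical
  let f : V →* V :=
    { toFun := fun v => ⟨v * (s * v * s⁻¹), V.mul_mem v.2 (hs v v.2)⟩
      map_one' := by simp
      map_mul' := fun v w => Subtype.ext (by
        simp only [Subgroup.coe_mul]
        have h := hVc w w.2 _ (hs v v.2)
        calc (v : G) * w * (s * (v * w) * s⁻¹) = v * (w * (s * v * s⁻¹)) * (s * w * s⁻¹) := by group
          _ = v * (s * v * s⁻¹) * (w * (s * w * s⁻¹)) := by rw [h]; group) }
  have hinv : ∀ v ∈ V, v⁻¹ = v := fun v hv => inv_eq_of_mul_eq_one_right (hV v hv)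
  set F := (V ⊓ centralizer ({s} : Set G)).subgroupOf V with hF
  have hcardF : Nat.card F = Nat.card ↥(V ⊓ centralizer ({s} : Set G)) :=
    Nat.card_congr (subgroupOfEquivOfLe inf_le_left).toEquiv
  have hker : f.ker ≤ F := by
    intro v hv
    have h : (v : G) * (s * v * s⁻¹) = 1 := congrArg Subtype.val hv
    have h' : s * v * s⁻¹ = v := (eq_inv_of_mul_eq_one_right h).trans (hinv v v.2)
    refine mem_subgroupOf.mpr ⟨v.2, mem_centralizer_singleton_iff.mpr ?_⟩
    calc (v : G) * s = s * v * s⁻¹ * s := by rw [h']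
      _ = s * v := by group
  have hrange : f.range ≤ F := by
    rintro _ ⟨v, rfl⟩
    refine mem_subgroupOf.mpr ⟨(f v).2, mem_centralizer_singleton_iff.mpr ?_⟩
    show (v : G) * (s * v * s⁻¹) * s = s * (v * (s * v * s⁻¹))
    have h1 : s * (v * (s * v * s⁻¹)) = (s * v * s⁻¹) * v * s := by
      calc s * (v * (s * v * s⁻¹)) = (s * v * s⁻¹) * (s * s * v) * s⁻¹ := by group
        _ = (s * v * s⁻¹) * (v * (s * s)) * s⁻¹ := by rw [hs2 v v.2]
        _ = (s * v * s⁻¹) * v * s := by group
    rw [h1, hVc _ v.2 _ (hs v v.2)]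
  have h := f.ker.card_mul_index
  rw [Subgroup.index_ker] at h
  rw [← h, sq, ← hcardF]
  exact Nat.mul_le_mul (card_le_of_le hker) (card_le_of_le hrange)

/-- An element of a 2-group outside `T`, normalising `T`, with square in `T`. -/
theorem exists_sq_mem {S T : Subgroup G} (hS : IsPGroup 2 S) (hTS : T ≤ S) (hne : T ≠ S) :
    ∃ s ∈ S, s ∉ T ∧ s ∈ normalizer (T : Set G) ∧ s * s ∈ T := by
  haveI : Fact (Nat.Prime 2) := ⟨Nat.prime_two⟩
  haveI := hS.isNilpotent
  have hlt : T.subgroupOf S < ⊤ := lt_top_iff_ne_top.mpr fun h =>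
    hne (le_antisymm hTS (subgroupOf_eq_top.mp h))
  obtain ⟨g, hg, hgT⟩ := SetLike.exists_of_lt
    (Group.normalizerCondition_of_isNilpotent _ hlt)
  have hgN : (g : G) ∈ normalizer (T : Set G) := by
    rw [mem_normalizer_iff]
    intro h
    constructor
    · intro hh
      have := (mem_normalizer_iff.mp hg ⟨h, hTS hh⟩).mp (mem_subgroupOf.mpr hh)
      exact mem_subgroupOf.mp this
    · intro hh
      have hh' : h ∈ S := by
        have h2 := S.mul_mem (S.mul_mem (S.inv_mem g.2) (hTS hh)) g.2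
        simpa [mul_assoc] using h2
      exact mem_subgroupOf.mp ((mem_normalizer_iff.mp hg ⟨h, hh'⟩).mpr (mem_subgroupOf.mpr hh))
  obtain ⟨k, hk⟩ := hS g
  have hk' : (g : G) ^ 2 ^ k = 1 := by simpa using congrArg Subtype.val hk
  have hex : ∃ j, (g : G) ^ 2 ^ j ∈ T := ⟨k, hk' ▸ T.one_mem⟩
  classical
  set j := Nat.find hex
  have hj : (g : G) ^ 2 ^ j ∈ T := Nat.find_spec hex
  have hj0 : j ≠ 0 := fun h => hgT (mem_subgroupOf.mpr (by simpa [h] using hj))
  refine ⟨(g : G) ^ 2 ^ (j - 1), S.pow_mem g.2 _, Nat.find_min hex (by omega),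
    Subgroup.pow_mem _ hgN _, ?_⟩
  rw [← pow_add, ← two_mul, ← pow_succ', show j - 1 + 1 = j by omega]
  exact hj

/-- Elementary sections of a 2-group containing `b` are bounded by the centraliser of `b`. -/
theorem relIndex_le_card_centralizer {N H : Subgroup G} (h : IsElemSection 2 N H) {b : G}
    (hb : b ∈ H) : N.relIndex H ≤ Nat.card ↥(H ⊓ centralizer ({b} : Set G)) := by
  classical
  set C := H ⊓ centralizer ({b} : Set G) with hC
  have hidx : (C.subgroupOf H).index ≤ Nat.card N := by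
    let f : H ⧸ C.subgroupOf H → N := Quotient.lift
      (fun x : H => (⟨(x : G) * b * (x : G)⁻¹ * b⁻¹, h.comm x x.2 b hb⟩ : N)) (fun x y hxy => by
        have h1 := mem_subgroupOf.mp (QuotientGroup.leftRel_apply.mp hxy)
        have h2 : (x : G)⁻¹ * y * b = b * ((x : G)⁻¹ * y) := mem_centralizer_singleton_iff.mp h1.2
        refine Subtype.ext ?_
        show (x : G) * b * (x : G)⁻¹ * b⁻¹ = (y : G) * b * (y : G)⁻¹ * b⁻¹
        have h3 : (y : G) * b = (x : G) * b * (x : G)⁻¹ * y := by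
          calc (y : G) * b = (x : G) * ((x : G)⁻¹ * y * b) := by group
            _ = (x : G) * (b * ((x : G)⁻¹ * y)) := by rw [h2]
            _ = (x : G) * b * (x : G)⁻¹ * y := by group
        rw [h3]; group)
    refine Nat.card_le_card_of_injective f ?_
    intro u v
    induction u using QuotientGroup.induction_on with
    | _ x =>
      induction v using QuotientGroup.induction_on with
      | _ y =>
        intro he
        have he' : (x : G) * b * (x : G)⁻¹ * b⁻¹ = (y : G) * b * (y : G)⁻¹ * b⁻¹ :=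
          congrArg Subtype.val he
        have he'' : (x : G) * b * (x : G)⁻¹ = (y : G) * b * (y : G)⁻¹ := mul_right_cancel he'
        refine QuotientGroup.eq.mpr (mem_subgroupOf.mpr ⟨(x⁻¹ * y : H).2, ?_⟩)
        refine mem_centralizer_singleton_iff.mpr ?_
        show (x : G)⁻¹ * y * b = b * ((x : G)⁻¹ * y)
        calc (x : G)⁻¹ * y * b = (x : G)⁻¹ * ((y : G) * b * (y : G)⁻¹) * y := by group
          _ = (x : G)⁻¹ * ((x : G) * b * (x : G)⁻¹) * y := by rw [he'']
          _ = b * ((x : G)⁻¹ * y) := by group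
  have h1 := (C.subgroupOf H).card_mul_index
  rw [Nat.card_congr (subgroupOfEquivOfLe inf_le_left).toEquiv] at h1
  have h2 := card_mul_relIndex_of_le N H h.le
  refine Nat.le_of_mul_le_mul_left ?_ (Nat.card_pos (α := N))
  rw [h2, ← h1, mul_comm (Nat.card N)]
  exact Nat.mul_le_mul_left _ hidx

/-- `S` contains the elementary abelian group `T` of order 16 as the centraliser of every
involution of the four-subgroup `B` of `T`. -/
structure Config (S T B : Subgroup G) : Prop where
  hS : IsPGroup 2 S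
  hTS : T ≤ S
  hBT : B ≤ T
  hsq : ∀ t ∈ T, t * t = 1
  hcard : Nat.card T = 16
  hB : Nat.card B = 4
  hcen : ∀ b ∈ B, b ≠ 1 → ∀ g ∈ S, g * b = b * g → g ∈ T

namespace Config

variable {S T B : Subgroup G}

theorem comm (h : Config S T B) : ∀ v ∈ T, ∀ w ∈ T, v * w = w * v := by
  intro v hv w hw
  have h1 := h.hsq (v * w) (T.mul_mem hv hw)
  calc v * w = (v * w)⁻¹ := (inv_eq_of_mul_eq_one_right h1).symm
    _ = w⁻¹ * v⁻¹ := mul_inv_rev v w
    _ = w * v := by
      rw [inv_eq_of_mul_eq_one_right (h.hsq v hv), inv_eq_of_mul_eq_one_right (h.hsq w hw)]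

theorem conj (h : Config S T B) {g : G} (hg : g ∈ S) :
    Config S (T.map (MulAut.conj g).toMonoidHom) (B.map (MulAut.conj g).toMonoidHom) where
  hS := h.hS
  hTS := by
    rintro _ ⟨t, ht, rfl⟩
    exact S.mul_mem (S.mul_mem hg (h.hTS ht)) (S.inv_mem hg)
  hBT := map_mono h.hBT
  hsq := by
    rintro _ ⟨t, ht, rfl⟩
    rw [← map_mul, h.hsq t ht, map_one]
  hcard := by rw [card_map_of_injective (MulAut.conj g).injective, h.hcard]
  hB := by rw [card_map_of_injective (MulAut.conj g).injective, h.hB]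
  hcen := by
    rintro _ ⟨b, hb, rfl⟩ hb1 y hy hcomm
    simp only [MulEquiv.coe_toMonoidHom, MulAut.conj_apply] at hb1 hcomm
    refine ⟨g⁻¹ * y * g, h.hcen b hb (fun e => hb1 (by simp [e])) _
      (S.mul_mem (S.mul_mem (S.inv_mem hg) hy) hg) ?_, by simp [mul_assoc]⟩
    calc g⁻¹ * y * g * b = g⁻¹ * (y * (g * b * g⁻¹)) * g := by group
      _ = g⁻¹ * (g * b * g⁻¹ * y) * g := by rw [hcomm]
      _ = b * (g⁻¹ * y * g) := by group

/-- The normaliser of `T` in `S` has order at most 64. -/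
theorem card_normalizer_le (h : Config S T B) :
    Nat.card ↥(S ⊓ normalizer (T : Set G)) ≤ 64 := by
  classical
  haveI : Fact (Nat.Prime 2) := ⟨Nat.prime_two⟩
  set N := S ⊓ normalizer (T : Set G) with hN
  have hNp : IsPGroup 2 N := h.hS.to_le inf_le_left
  have hTp : IsPGroup 2 T := h.hS.to_le h.hTS
  have hTN : T ≤ N := le_inf h.hTS le_normalizer
  have hTne : T ≠ ⊥ := fun e => by
    have := h.hcard
    rw [e, Subgroup.card_bot] at this
    omega
  set D := ⁅T, N⁆ with hD
  have hDT : D < T := Coprime.commutator_lt_of_isPGroup hTp hNp inf_le_right hTne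
  haveI : Finite (Subgroup G) := Finite.of_injective _ SetLike.coe_injective
  obtain ⟨M, ⟨hDM, hMT⟩, hmax⟩ := Set.Finite.exists_maximal
    (s := {M : Subgroup G | D ≤ M ∧ M < T}) (Set.toFinite _) ⟨D, le_rfl, hDT⟩
  -- `M` is normalised by `N`
  have hMN : ∀ n ∈ N, ∀ v ∈ M, n * v * n⁻¹ ∈ M := by
    intro n hn v hv
    have h1 : v * n * v⁻¹ * n⁻¹ ∈ M := hDM (commutator_mem_commutator (hMT.le hv) hn)
    have h2 := M.mul_mem (M.inv_mem (M.mul_mem (M.inv_mem hv) h1)) M.one_mem
    rw [mul_one, show (v⁻¹ * (v * n * v⁻¹ * n⁻¹))⁻¹ = n * v * n⁻¹ by group] at h2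
    exact h2
  have hMB : ∃ b ∈ B, b ∈ M ∧ b ≠ 1 := by
    by_contra hcon
    push Not at hcon
    obtain ⟨t, ht, htM⟩ := SetLike.exists_of_lt hMT
    have hMsup : M ⊔ zpowers t = T := by
      by_contra hne
      have hle : M ⊔ zpowers t ≤ T := sup_le hMT.le (zpowers_le.mpr ht)
      exact htM (hmax (y := M ⊔ zpowers t) ⟨hDM.trans le_sup_left, lt_of_le_of_ne hle hne⟩
        le_sup_left (mem_sup_right (mem_zpowers t)))
    have hnorm : zpowers t ≤ normalizer (M : Set G) := by
      refine zpowers_le.mpr (mem_normalizer_iff.mpr fun v => ⟨fun hv => hMN t (hTN ht) v hv,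
        fun hv => ?_⟩)
      have := hMN t⁻¹ (N.inv_mem (hTN ht)) _ hv
      simpa [mul_assoc] using this
    have hcardT : Nat.card T ≤ Nat.card M * 2 := by
      have h1 : ((T : Set G)) = (M : Set G) * (zpowers t : Set G) := by
        rw [← hMsup, coe_mul_of_right_le_normalizer_left M _ hnorm]
      have h2 := Set.natCard_mul_le (s := (M : Set G)) (t := (zpowers t : Set G))
      rw [← h1, SetLike.coe_sort_coe, SetLike.coe_sort_coe, SetLike.coe_sort_coe,
        Nat.card_zpowers] at h2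
      exact h2.trans (Nat.mul_le_mul_left _
        (orderOf_le_of_pow_eq_one two_pos (by rw [pow_two]; exact h.hsq t ht)))
    rw [h.hcard] at hcardT
    have h3 := card_mul_card_le M B T hMT.le h.hBT
    rw [h.hB, h.hcard] at h3
    have h4 : 1 < Nat.card ↥(M ⊓ B) := by omega
    obtain ⟨b, hb, hbM, hb1⟩ := exists_mem_inf_ne_one h4
    exact hb1 (hcon b hb hbM)
  obtain ⟨b, hbB, hbM, hb1⟩ := hMB
  -- the orbit of `b`
  set I := T.subgroupOf N with hI
  let f : N ⧸ I → {v : M // v ≠ 1} := Quotient.lift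
    (fun n : N => (⟨⟨(n : G) * b * (n : G)⁻¹, hMN n n.2 b hbM⟩, fun he => hb1 (by
      have := congrArg Subtype.val he
      simpa using this)⟩ : {v : M // v ≠ 1}))
    (fun n m hnm => by
      have hT' : (n : G)⁻¹ * m ∈ T := mem_subgroupOf.mp (QuotientGroup.leftRel_apply.mp hnm)
      refine Subtype.ext (Subtype.ext ?_)
      show (n : G) * b * (n : G)⁻¹ = (m : G) * b * (m : G)⁻¹
      calc (n : G) * b * (n : G)⁻¹
          = (n : G) * (b * ((n : G)⁻¹ * m)) * (m : G)⁻¹ := by group
        _ = (n : G) * (((n : G)⁻¹ * m) * b) * (m : G)⁻¹ := by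
            rw [h.comm b (h.hBT hbB) _ hT']
        _ = (m : G) * b * (m : G)⁻¹ := by group)
  have hf : Function.Injective f := by
    intro u v
    induction u using QuotientGroup.induction_on with
    | _ n =>
      induction v using QuotientGroup.induction_on with
      | _ m =>
        intro he
        have he' : (n : G) * b * (n : G)⁻¹ = (m : G) * b * (m : G)⁻¹ :=
          congrArg (fun w : {v : M // v ≠ 1} => ((w : M) : G)) he
        refine QuotientGroup.eq.mpr (mem_subgroupOf.mpr (h.hcen b hbB hb1 _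
          (S.mul_mem (S.inv_mem n.2.1) m.2.1) ?_))
        show (n : G)⁻¹ * m * b = b * ((n : G)⁻¹ * m)
        calc (n : G)⁻¹ * m * b = (n : G)⁻¹ * ((m : G) * b * (m : G)⁻¹) * m := by group
          _ = (n : G)⁻¹ * ((n : G) * b * (n : G)⁻¹) * m := by rw [he']
          _ = b * ((n : G)⁻¹ * m) := by group
  have hMlt : Nat.card M ≤ 8 := by
    have h1 := Subgroup.card_dvd_of_le hMT.le
    rw [h.hcard] at h1
    have h2 : Nat.card M < 16 := by
      rw [← h.hcard]
      exact lt_of_le_of_ne (card_le_of_le hMT.le) fun e =>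
        hMT.ne (eq_of_le_of_card_ge hMT.le e.ge)
    have := (Nat.dvd_prime_pow Nat.prime_two).mp (show Nat.card M ∣ 2 ^ 4 by simpa using h1)
    obtain ⟨k, hk, hk'⟩ := this
    rw [hk'] at h2 ⊢
    interval_cases k <;> simp_all
  have hidx : I.index < 8 := by
    refine lt_of_le_of_lt (Nat.card_le_card_of_injective f hf) ?_
    exact lt_of_lt_of_le
      (Finite.card_subtype_lt (p := fun v : M => v ≠ 1) (x := 1) (fun hne => hne rfl)) hMlt
  obtain ⟨k, hk⟩ := hNp.index I
  have h1 := I.card_mul_index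
  rw [Nat.card_congr (subgroupOfEquivOfLe hTN).toEquiv, h.hcard, hk] at h1
  rw [hk] at hidx
  rw [← h1]
  have : k < 3 := (Nat.pow_lt_pow_iff_right (by norm_num)).mp (show 2 ^ k < 2 ^ 3 by simpa using hidx)
  interval_cases k <;> norm_num

/-- The order of `S` is at most 128. -/
theorem card_le (h : Config S T B) : Nat.card S ≤ 128 := by
  classical
  haveI : Fact (Nat.Prime 2) := ⟨Nat.prime_two⟩
  set N := S ⊓ normalizer (T : Set G) with hN
  have hNS : N ≤ S := inf_le_left
  have hTN : T ≤ N := le_inf h.hTS le_normalizer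
  by_cases hNeq : N = S
  · exact hNeq ▸ (h.card_normalizer_le.trans (by norm_num))
  obtain ⟨g, hgS, hgN, hgn, -⟩ := exists_sq_mem h.hS hNS hNeq
  set T' := T.map (MulAut.conj g).toMonoidHom with hT'
  have h' : Config S T' (B.map (MulAut.conj g).toMonoidHom) := h.conj hgS
  have hT'N : T' ≤ N := by
    rintro _ ⟨t, ht, rfl⟩
    exact (mem_normalizer_iff.mp hgn t).mp (hTN ht)
  have hTT' : T' ≠ T := by
    intro he
    refine hgN ⟨hgS, mem_normalizer_iff.mpr fun t => ⟨fun ht => ?_, fun ht => ?_⟩⟩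
    · rw [← he]; exact ⟨t, ht, rfl⟩
    · rw [← he] at ht
      obtain ⟨u, hu, hu'⟩ := ht
      rwa [← (MulAut.conj g).injective hu']
  have hsmall : ∀ {T₀ B₀ : Subgroup G}, Config S T₀ B₀ → ∀ U : Subgroup G, U ≤ S →
      (∀ u ∈ U, ∀ v ∈ U, u * v = v * u) → 8 ≤ Nat.card ↥(U ⊓ T₀) → U ≤ T₀ := by
    intro T₀ B₀ h₀ U hU hUc h8 u hu
    have h3 := card_mul_card_le (U ⊓ T₀) B₀ T₀ inf_le_right h₀.hBT
    rw [h₀.hB, h₀.hcard] at h3
    have h4 : 1 < Nat.card ↥(U ⊓ T₀ ⊓ B₀) := by omega
    obtain ⟨b, hb, hbU, hb1⟩ := exists_mem_inf_ne_one h4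
    exact h₀.hcen b hb hb1 u (hU hu) (hUc u hu b hbU.1)
  set W := T' ⊓ T with hW
  have h64 : Nat.card N ≤ 64 := h.card_normalizer_le
  have hW4 : Nat.card W < 8 := by
    by_contra hc
    exact hTT' (eq_of_le_of_card_ge
      (hsmall h T' h'.hTS h'.comm (show 8 ≤ Nat.card W by omega))
      (by rw [h.hcard, h'.hcard]))
  have hcardN : Nat.card N = 64 ∧ Nat.card W = 4 := by
    have h3 := card_mul_card_le T' T N hT'N hTN
    rw [h'.hcard, h.hcard] at h3
    obtain ⟨k, hk⟩ := IsPGroup.iff_card.mp ((h.hS.to_le h.hTS).to_le (inf_le_right : W ≤ T))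
    rw [← hW, hk] at h3
    rw [hk] at hW4 ⊢
    have : k < 3 := (Nat.pow_lt_pow_iff_right (by norm_num)).mp (show 2 ^ k < 2 ^ 3 by simpa using hW4)
    interval_cases k <;> constructor <;> simp at h3 ⊢ <;> omega
  have hprod : ∀ y ∈ N, ∃ t ∈ T, ∃ t' ∈ T', y = t * t' := by
    have h1 := CD.card_setMul_mul_card_inf T T'
    rw [h.hcard, h'.hcard, inf_comm, ← hW, hcardN.2] at h1
    have h2 : (T : Set G) * (T' : Set G) = (N : Set G) := by
      refine Set.eq_of_subset_of_ncard_le ?_ ?_ (Set.toFinite _)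
      · rintro _ ⟨a, ha, b, hb, rfl⟩
        exact N.mul_mem (hTN ha) (hT'N hb)
      · rw [← Nat.card_coe_set_eq, ← Nat.card_coe_set_eq, SetLike.coe_sort_coe, hcardN.1]
        omega
    intro y hy
    have hy' : y ∈ (T : Set G) * (T' : Set G) := h2.symm ▸ hy
    obtain ⟨t, ht, t', ht', rfl⟩ := Set.mem_mul.mp hy'
    exact ⟨t, ht, t', ht', rfl⟩
  -- elementary subgroups of `N`
  have hunion : ∀ U : Subgroup G, U ≤ N → (∀ u ∈ U, u * u = 1) → U ≤ T ∨ U ≤ T' := by
    intro U hU hUsq
    have hmem : ∀ u ∈ U, u ∈ T ∨ u ∈ T' := by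
      intro u hu
      obtain ⟨t, ht, t', ht', rfl⟩ := hprod u (hU hu)
      have hcomm : t * t' = t' * t := by
        calc t * t' = (t * t')⁻¹ := (inv_eq_of_mul_eq_one_right (hUsq _ hu)).symm
          _ = t'⁻¹ * t⁻¹ := mul_inv_rev t t'
          _ = t' * t := by
            rw [inv_eq_of_mul_eq_one_right (h.hsq t ht),
              inv_eq_of_mul_eq_one_right (h'.hsq t' ht')]
      by_cases ht'T : t' ∈ T
      · exact Or.inl (T.mul_mem ht ht'T)
      · right
        refine T'.mul_mem ?_ ht'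
        by_contra htT'
        -- the centraliser of `t'` in `T` is at least of order 8
        set C := T ⊓ centralizer ({t'} : Set G)
        have hWC : W ≤ C := fun w hw => ⟨hw.2,
          mem_centralizer_singleton_iff.mpr (h'.comm w hw.1 t' ht')⟩
        have hC8 : 8 ≤ Nat.card C := by
          have h1 := card_dvd_of_le hWC
          have h2 : W < C := lt_of_le_of_ne hWC fun e =>
            htT' (e ▸ (⟨ht, mem_centralizer_singleton_iff.mpr hcomm⟩ : t ∈ C) : t ∈ W).1
          have h3 : 4 < Nat.card C := by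
            rw [← hcardN.2]
            exact lt_of_le_of_ne (card_le_of_le hWC) fun e =>
              h2.ne (eq_of_le_of_card_ge hWC e.ge)
          rw [hcardN.2] at h1
          obtain ⟨c, hc⟩ := h1
          omega
        have h3 := card_mul_card_le C B T inf_le_left h.hBT
        rw [h.hB, h.hcard] at h3
        have h4 : 1 < Nat.card ↥(C ⊓ B) := by omega
        obtain ⟨b, hb, hbC, hb1⟩ := exists_mem_inf_ne_one h4
        exact ht'T (h.hcen b hb hb1 t' (h'.hTS ht')
          (mem_centralizer_singleton_iff.mp hbC.2).symm)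
    by_contra hcon
    push Not at hcon
    obtain ⟨u, hu, huT⟩ := SetLike.not_le_iff_exists.mp hcon.1
    obtain ⟨v, hv, hvT'⟩ := SetLike.not_le_iff_exists.mp hcon.2
    have huT' := (hmem u hu).resolve_left huT
    have hvT := (hmem v hv).resolve_right hvT'
    rcases hmem (u * v) (U.mul_mem hu hv) with h1 | h1
    · exact huT (by simpa using T.mul_mem h1 (T.inv_mem hvT))
    · exact hvT' (by simpa using T'.mul_mem (T'.inv_mem huT') h1)
  set M := S ⊓ normalizer (N : Set G) with hM
  have hNM : N ≤ M := le_inf hNS le_normalizer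
  -- conjugates in `N`
  have hconjN : ∀ {k : G}, k ∈ S → T.map (MulAut.conj k).toMonoidHom ≤ N →
      T.map (MulAut.conj k).toMonoidHom = T ∨ T.map (MulAut.conj k).toMonoidHom = T' := by
    intro k hk hle
    rcases hunion _ hle (h.conj hk).hsq with h1 | h1
    · exact Or.inl (eq_of_le_of_card_ge h1 (by rw [h.hcard, (h.conj hk).hcard]))
    · exact Or.inr (eq_of_le_of_card_ge h1 (by rw [h'.hcard, (h.conj hk).hcard]))
  have hidx : Nat.card M ≤ 2 * Nat.card N := by
    set I := N.subgroupOf M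
    have hT2 : ∀ m : M, T.map (MulAut.conj (m : G)).toMonoidHom ≤ N := by
      rintro m _ ⟨t, ht, rfl⟩
      exact (mem_normalizer_iff.mp m.2.2 t).mp (hTN ht)
    have hle : I.index ≤ 2 := by
      let f : M ⧸ I → Bool := fun q => decide (T.map (MulAut.conj (q.out : G)).toMonoidHom = T)
      have hf : Function.Injective f := by
        intro u v he
        rw [← QuotientGroup.out_eq' u, ← QuotientGroup.out_eq' v, QuotientGroup.eq]
        have he' : T.map (MulAut.conj (u.out : G)).toMonoidHom =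
            T.map (MulAut.conj (v.out : G)).toMonoidHom := by
          simp only [f] at he
          rw [decide_eq_decide] at he
          rcases hconjN u.out.2.1 (hT2 _) with h1 | h1
          · exact h1.trans (he.mp h1).symm
          · rcases hconjN v.out.2.1 (hT2 _) with h2 | h2
            · exact absurd (h1.symm.trans (he.mpr h2)) hTT'
            · exact h1.trans h2.symm
        refine mem_subgroupOf.mpr ⟨S.mul_mem (S.inv_mem u.out.2.1) v.out.2.1, ?_⟩
        show (u.out : G)⁻¹ * (v.out : G) ∈ normalizer (T : Set G)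
        rw [mem_normalizer_iff]
        intro t
        constructor
        · intro ht
          have h3 : (v.out : G) * t * (v.out : G)⁻¹ ∈ T.map (MulAut.conj (u.out : G)).toMonoidHom :=
            he'.symm ▸ ⟨t, ht, rfl⟩
          obtain ⟨t₂, ht₂, he₂⟩ := h3
          have : (u.out : G)⁻¹ * (v.out : G) * t * ((u.out : G)⁻¹ * (v.out : G))⁻¹ = t₂ := by
            simp only [MulEquiv.coe_toMonoidHom, MulAut.conj_apply] at he₂
            calc _ = (u.out : G)⁻¹ * ((v.out : G) * t * (v.out : G)⁻¹) * u.out := by group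
              _ = (u.out : G)⁻¹ * ((u.out : G) * t₂ * (u.out : G)⁻¹) * u.out := by rw [he₂]
              _ = t₂ := by group
          rw [this]; exact ht₂
        · intro ht
          have h3 : (u.out : G) * ((u.out : G)⁻¹ * (v.out : G) * t *
              ((u.out : G)⁻¹ * (v.out : G))⁻¹) * (u.out : G)⁻¹ ∈
              T.map (MulAut.conj (v.out : G)).toMonoidHom := he' ▸ ⟨_, ht, rfl⟩
          obtain ⟨t₂, ht₂, he₂⟩ := h3
          simp only [MulEquiv.coe_toMonoidHom, MulAut.conj_apply] at he₂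
          have : t = t₂ := by
            calc t = (v.out : G)⁻¹ * ((u.out : G) * ((u.out : G)⁻¹ * (v.out : G) * t *
                  ((u.out : G)⁻¹ * (v.out : G))⁻¹) * (u.out : G)⁻¹) * v.out := by group
              _ = (v.out : G)⁻¹ * ((v.out : G) * t₂ * (v.out : G)⁻¹) * v.out := by rw [he₂]
              _ = t₂ := by group
          rw [this]; exact ht₂
      refine (Nat.card_le_card_of_injective f hf).trans ?_
      simp
    rw [← I.card_mul_index, Nat.card_congr (subgroupOfEquivOfLe hNM).toEquiv, mul_comm]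
    exact Nat.mul_le_mul_right _ hle
  by_cases hMeq : M = S
  · rw [hMeq, hcardN.1] at hidx; omega
  exfalso
  obtain ⟨k, hkS, hkM, hkn, -⟩ := exists_sq_mem h.hS inf_le_left hMeq
  -- a conjugate of `T` inside `M` lies in `N`
  have hin : ∀ {l : G}, l ∈ S → T.map (MulAut.conj l).toMonoidHom ≤ M →
      T.map (MulAut.conj l).toMonoidHom ≤ N := by
    intro l hl hle
    set U := T.map (MulAut.conj l).toMonoidHom
    have hU := h.conj hl
    have h3 := card_mul_card_le U N M hle hNM
    rw [hU.hcard] at h3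
    have h8 : 8 ≤ Nat.card ↥(U ⊓ N) := by
      by_contra hc
      have := Nat.mul_le_mul (hidx) (show Nat.card ↥(U ⊓ N) ≤ 7 by omega)
      rw [hcardN.1] at h3 this
      omega
    rcases hunion (U ⊓ N) inf_le_right (fun u hu => hU.hsq u hu.1) with h1 | h1
    · exact (hsmall h U hU.hTS hU.comm
        (h8.trans (card_le_of_le (le_inf inf_le_left h1)))).trans hTN
    · exact (hsmall h' U hU.hTS hU.comm
        (h8.trans (card_le_of_le (le_inf inf_le_left h1)))).trans hT'N
  have hkT : T.map (MulAut.conj k).toMonoidHom ≤ M := by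
    rintro _ ⟨t, ht, rfl⟩
    exact (mem_normalizer_iff.mp hkn t).mp (hNM (hTN ht))
  have hkg : T.map (MulAut.conj (k * g)).toMonoidHom ≤ M := by
    rintro _ ⟨t, ht, rfl⟩
    have h1 : g * t * g⁻¹ ∈ N := hT'N ⟨t, ht, rfl⟩
    have h2 := (mem_normalizer_iff.mp hkn _).mp (hNM h1)
    simp only [MulEquiv.coe_toMonoidHom, MulAut.conj_apply]
    rw [show k * g * t * (k * g)⁻¹ = k * (g * t * g⁻¹) * k⁻¹ by group]
    exact h2
  have hkN : N.map (MulAut.conj k).toMonoidHom ≤ N := by
    rintro _ ⟨y, hy, rfl⟩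
    obtain ⟨t, ht, t', ⟨u, hu, rfl⟩, rfl⟩ := hprod y hy
    simp only [MulEquiv.coe_toMonoidHom, MulAut.conj_apply]
    rw [show k * (t * (g * u * g⁻¹)) * k⁻¹ = (k * t * k⁻¹) * ((k * g) * u * (k * g)⁻¹) by group]
    exact N.mul_mem (hin hkS hkT ⟨t, ht, rfl⟩)
      (hin (S.mul_mem hkS hgS) hkg ⟨u, hu, rfl⟩)
  have hkeq : N.map (MulAut.conj k).toMonoidHom = N :=
    eq_of_le_of_card_ge hkN (by rw [card_map_of_injective (MulAut.conj k).injective])
  refine hkM ⟨hkS, mem_normalizer_iff.mpr fun y => ⟨fun hy => hkeq.le ⟨y, hy, rfl⟩, fun hy => ?_⟩⟩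
  rw [← hkeq] at hy
  obtain ⟨z, hz, he⟩ := hy
  rwa [← (MulAut.conj k).injective he]

/-- Elementary sections of `S` have order at most 16. -/
theorem relIndex_le (h : Config S T B) {N H : Subgroup G} (hH : H ≤ S)
    (hsec : IsElemSection 2 N H) : N.relIndex H ≤ 16 := by
  classical
  haveI : Fact (Nat.Prime 2) := ⟨Nat.prime_two⟩
  by_cases hex : ∃ b ∈ B, b ∈ H ∧ b ≠ 1
  · obtain ⟨b, hb, hbH, hb1⟩ := hex
    refine (relIndex_le_card_centralizer hsec hbH).trans (le_trans (card_le_of_le ?_) h.hcard.le)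
    exact fun g hg => h.hcen b hb hb1 g (hH hg.1) (mem_centralizer_singleton_iff.mp hg.2)
  push Not at hex
  have hinf : Nat.card ↥(H ⊓ B) = 1 := by
    by_contra hne
    obtain ⟨b, hb, hbH, hb1⟩ := exists_mem_inf_ne_one (A := H) (B := B)
      (by have := Nat.card_pos (α := ↥(H ⊓ B)); omega)
    exact hb1 (hex b hb hbH)
  by_contra hbig
  have hNH := card_mul_relIndex_of_le N H hsec.le
  have hle := Nat.le_of_dvd Nat.card_pos (⟨Nat.card N, by rw [mul_comm]; exact hNH.symm⟩ :
    N.relIndex H ∣ Nat.card H)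
  obtain ⟨k, hk⟩ := IsPGroup.iff_card.mp (h.hS.to_le hH)
  have hS128 := h.card_le
  have h3 := card_mul_card_le H B S hH (h.hBT.trans h.hTS)
  rw [h.hB, hinf] at h3
  have hk5 : k = 5 := by
    rw [hk] at hle h3
    have h1 : 2 ^ 4 < 2 ^ k := by norm_num; omega
    have h2 := (Nat.pow_lt_pow_iff_right (by norm_num)).mp h1
    have h4 : 2 ^ k < 2 ^ 6 := by norm_num; omega
    have h5 := (Nat.pow_lt_pow_iff_right (by norm_num)).mp h4
    omega
  rw [hk, hk5] at hle h3 hNH
  have hN1 : Nat.card N = 1 := by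
    rcases Nat.lt_or_ge (Nat.card N) 2 with h2 | h2
    · have := Nat.card_pos (α := N); omega
    · have := Nat.mul_le_mul h2 (show 17 ≤ N.relIndex H by omega)
      omega
  have hNbot : N = ⊥ := Subgroup.card_eq_one.mp hN1
  have hHsq : ∀ u ∈ H, u * u = 1 := fun u hu => by
    have := hsec.pow u hu
    rwa [hNbot, mem_bot, pow_two] at this
  have hHc : ∀ u ∈ H, ∀ v ∈ H, u * v = v * u := fun u hu v hv => by
    have h1 := hsec.comm u hu v hv
    rw [hNbot, mem_bot, mul_inv_eq_one, mul_inv_eq_iff_eq_mul] at h1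
    exact h1
  -- a normalising element of `B`
  have hSH : H ≠ S := fun e => by
    have hBH : H ⊓ B = B := inf_eq_right.mpr (e ▸ h.hBT.trans h.hTS)
    rw [hBH, h.hB] at hinf
    omega
  obtain ⟨s, hsS, hsH, hsn, -⟩ := exists_sq_mem h.hS hH hSH
  set K := S ⊓ normalizer (H : Set G) with hK
  have hHK : H < K := lt_of_le_of_ne (le_inf hH le_normalizer) fun e =>
    hsH (e ▸ (⟨hsS, hsn⟩ : s ∈ K))
  have hK64 : 64 ≤ Nat.card K := by
    obtain ⟨j, hj⟩ := IsPGroup.iff_card.mp (h.hS.to_le (inf_le_left : K ≤ S))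
    have h1 : 2 ^ 5 < 2 ^ j := by
      rw [← hj, ← hk5, ← hk]
      exact lt_of_le_of_ne (card_le_of_le hHK.le) fun e =>
        hHK.ne (eq_of_le_of_card_ge hHK.le e.ge)
    have h2 := (Nat.pow_lt_pow_iff_right (by norm_num)).mp h1
    rw [hj]
    calc 64 = 2 ^ 6 := by norm_num
      _ ≤ 2 ^ j := Nat.pow_le_pow_right (by norm_num) h2
  have h4 := card_mul_card_le K B S inf_le_left (h.hBT.trans h.hTS)
  rw [h.hB] at h4
  obtain ⟨b, hb, hbK, hb1⟩ := exists_mem_inf_ne_one (A := K) (B := B) (by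
    by_contra hc
    have := Nat.mul_le_mul hS128 (show Nat.card ↥(K ⊓ B) ≤ 1 by omega)
    omega)
  have hfix := sq_card_fixed H hHsq hHc b (fun v hv => (mem_normalizer_iff.mp hbK.2 v).mp hv)
    (fun v _ => by rw [h.hsq b (h.hBT hb), one_mul, mul_one])
  set F := H ⊓ centralizer ({b} : Set G)
  have hFT : F ≤ T := fun u hu => h.hcen b hb hb1 u (hH hu.1) (mem_centralizer_singleton_iff.mp hu.2)
  have h5 := card_mul_card_le F B T hFT h.hBT
  rw [h.hB, h.hcard] at h5
  have h6 : Nat.card ↥(F ⊓ B) = 1 := by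
    have h7 := card_le_of_le (show F ⊓ B ≤ H ⊓ B from inf_le_inf_right _ inf_le_left)
    have := Nat.card_pos (α := ↥(F ⊓ B))
    omega
  rw [h6] at h5
  have h7 : Nat.card F ≤ 4 := by omega
  rw [hk, hk5] at hfix
  have := Nat.pow_le_pow_left h7 2
  omega

end Config

end Cfsg.Agent.Lib.FourCentralizer
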