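import Cfsg.Agent.Lib.FourCentralizer.Basic
import Cfsg.Prelude.Def_CaseTheorems

/-!
# Sectional rank with a centraliser of type `D × four-group`
-/

set_option autoImplicit false

namespace Cfsg.Agent.Lib.FourCentralizer

open Subgroup
open Cfsg.Agent.Lib.SectRank
open scoped Pointwise

variable {G : Type*} [Group G] [Finite G]

/-- Elementary sections of a cyclic subgroup have order at most 2. -/
theorem relIndex_le_two {N H : Subgroup G} (hsec : IsElemSection 2 N H) {r : G}
    (hr : H ≤ zpowers r) : N.relIndex H ≤ 2 := by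
  haveI : IsCyclic H := isCyclic_of_le hr
  obtain ⟨g, hg⟩ := IsCyclic.exists_generator (α := H)
  let f : Bool → H ⧸ N.subgroupOf H := fun b => bif b then (g : H ⧸ N.subgroupOf H) else ((1 : H) :)
  have hsurj : Function.Surjective f := by
    intro q
    induction q using QuotientGroup.induction_on with
    | _ v =>
      obtain ⟨i, rfl⟩ := mem_zpowers_iff.mp (hg v)
      rcases Int.even_or_odd i with ⟨j, rfl⟩ | ⟨j, rfl⟩
      · refine ⟨false, ?_⟩
        refine QuotientGroup.eq.mpr (mem_subgroupOf.mpr ?_)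
        have := hsec.pow ((g ^ j : H) : G) (g ^ j).2
        simpa [pow_two, zpow_add] using this
      · refine ⟨true, ?_⟩
        refine QuotientGroup.eq.mpr (mem_subgroupOf.mpr ?_)
        have := hsec.pow ((g ^ j : H) : G) (g ^ j).2
        rw [Subgroup.coe_mul, Subgroup.coe_inv, Subgroup.coe_zpow]
        rw [Subgroup.coe_zpow, pow_two, ← zpow_add] at this
        rw [show (2 * j + 1 : ℤ) = 1 + (j + j) by ring, zpow_add, zpow_one, inv_mul_cancel_left]
        exact this
  refine (Nat.card_le_card_of_surjective f hsurj).trans ?_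
  simp

/-- A cyclic subgroup `⟨r⟩` of index at most 2 in `D`, with a twist `y r y⁻¹ = r ^ j`. -/
structure Twisted (D : Subgroup G) (r y : G) (n : ℕ) (j : ℤ) : Prop where
  hr : r ∈ D
  hy : y ∈ D
  ord : orderOf r = 2 ^ n
  card : Nat.card D = 2 ^ (n + 1)
  tw : y * r * y⁻¹ = r ^ j

/-- Data extracted from a dihedral or quasi-dihedral group. -/
theorem exists_twisted {D : Subgroup G} (hDp : IsPGroup 2 D)
    (hD : (∃ m : ℕ, 2 ≤ m ∧ Nonempty (D ≃* DihedralGroup m)) ∨ Cfsg.IsQuasiDihedral D) :
    ∃ (r y : G) (n : ℕ) (j : ℤ), 1 ≤ n ∧ Twisted D r y n j ∧ (∀ d ∈ D, n = 1 → d * d = 1) ∧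
      (2 ≤ n → ∃ u : ℤ, Odd u ∧ j - 1 = 2 * u) := by
  haveI : Fact (Nat.Prime 2) := ⟨Nat.prime_two⟩
  rcases hD with ⟨m, hm, ⟨e⟩⟩ | ⟨n, hn, hcard, x, y, hx, -, hxy⟩
  · haveI : NeZero m := ⟨by omega⟩
    have hc : Nat.card D = 2 * m := by
      rw [Nat.card_congr e.toEquiv, DihedralGroup.nat_card]
    obtain ⟨k, hk⟩ := IsPGroup.iff_card.mp hDp
    rw [hc] at hk
    obtain ⟨n, rfl⟩ : ∃ n, k = n + 1 := Nat.exists_eq_succ_of_ne_zero (by
      rintro rfl; omega)
    have hmn : m = 2 ^ n := by rw [pow_succ'] at hk; omega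
    set r := ((e.symm (DihedralGroup.r 1) : D) : G)
    set y := ((e.symm (DihedralGroup.sr 0) : D) : G)
    refine ⟨r, y, n, -1, ?_, ⟨SetLike.coe_mem _, SetLike.coe_mem _, ?_, hc.trans hk, ?_⟩, ?_,
      fun _ => ⟨-1, by decide, rfl⟩⟩
    · by_contra h
      have : n = 0 := by omega
      rw [this] at hmn; omega
    · rw [Subgroup.orderOf_coe, MulEquiv.orderOf_eq, DihedralGroup.orderOf_r_one, hmn]
    · rw [zpow_neg_one]
      show ((e.symm (DihedralGroup.sr 0) * e.symm (DihedralGroup.r 1) *
        (e.symm (DihedralGroup.sr 0))⁻¹ : D) : G) = (((e.symm (DihedralGroup.r 1))⁻¹ : D) : G)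
      rw [← map_inv, ← map_inv, ← map_mul, ← map_mul]
      simp
    · intro d hd hn1
      have hm2 : m = 2 := by rw [hmn, hn1, pow_one]
      subst hm2
      have h : ∀ z : DihedralGroup 2, z * z = 1 := by decide
      have h1 : (⟨d, hd⟩ : D) * ⟨d, hd⟩ = 1 := e.injective (by rw [map_mul, map_one]; exact h _)
      exact congrArg Subtype.val h1
  · refine ⟨(x : G), (y : G), n, ((2 ^ (n - 1) - 1 : ℕ) : ℤ), by omega,
      ⟨x.2, y.2, by rw [Subgroup.orderOf_coe, hx], hcard, ?_⟩, fun d _ h1 => by omega, fun _ => ?_⟩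
    · rw [zpow_natCast]
      exact_mod_cast congrArg Subtype.val hxy
    · refine ⟨2 ^ (n - 2) - 1, ?_, ?_⟩
      · rw [Int.odd_sub, show n - 2 = (n - 3) + 1 by omega, pow_succ]
        simp
      · rw [Nat.cast_sub Nat.one_le_two_pow, show n - 1 = (n - 2) + 1 by omega, pow_succ]
        push_cast
        ring

/-- Central elements of `D` square to one and are few. -/
theorem center_small {D : Subgroup G} {r y : G} {n : ℕ} {j u : ℤ} (h : Twisted D r y n j)
    (hn : 2 ≤ n) (hu : Odd u) (hj : j - 1 = 2 * u) :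
    ∀ d ∈ D, (∀ v ∈ D, d * v = v * d) → d ∈ zpowers r ∧ d * d = 1 := by
  intro d hd hcen
  have hord : ∀ i : ℤ, r ^ i = 1 ↔ (2 ^ n : ℤ) ∣ i := fun i => by
    rw [← orderOf_dvd_iff_zpow_eq_one, h.ord]; push_cast; rfl
  have hcop : IsCoprime ((2 : ℤ) ^ n) u := by
    refine IsCoprime.pow_left ?_
    obtain ⟨w, rfl⟩ := hu
    exact ⟨-w, 1, by ring⟩
  have hC : Nat.card (zpowers r) = 2 ^ n := by rw [Nat.card_zpowers, h.ord]
  have hCD : zpowers r ≤ D := zpowers_le.mpr h.hr
  -- `d ∈ ⟨r⟩`
  have hdC : d ∈ zpowers r := by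
    by_contra hdC
    have hidx : ((zpowers r).subgroupOf D).index = 2 := by
      have h1 := ((zpowers r).subgroupOf D).card_mul_index
      rw [Nat.card_congr (subgroupOfEquivOfLe hCD).toEquiv, hC, h.card, pow_succ] at h1
      exact Nat.eq_of_mul_eq_mul_left (pow_pos two_pos n) h1
    have hyC : y ∉ zpowers r := by
      intro hy'
      obtain ⟨i, rfl⟩ := mem_zpowers_iff.mp hy'
      have h1 := h.tw
      rw [← zpow_neg, ← zpow_add_one, ← zpow_add, show i + 1 + -i = 1 by ring] at h1
      have h2 : r ^ (j - 1) = 1 := by rw [zpow_sub_one, ← h1, zpow_one, mul_inv_cancel]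
      rw [hord, hj] at h2
      have h3 := (hcop.symm.symm).dvd_of_dvd_mul_right (show (2:ℤ) ^ n ∣ 2 * u from h2)
      have h4 := Int.le_of_dvd (by norm_num) h3
      have h5 : (4 : ℤ) ≤ 2 ^ n := by
        calc (4 : ℤ) = 2 ^ 2 := by norm_num
          _ ≤ 2 ^ n := pow_le_pow_right₀ (by norm_num) hn
      omega
    have h1 : (⟨d, hd⟩ : D) * ⟨y, h.hy⟩ ∈ (zpowers r).subgroupOf D := by
      rw [Subgroup.mul_mem_iff_of_index_two hidx]
      simp only [mem_subgroupOf]
      exact iff_of_false hdC hyC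
    obtain ⟨i, hi⟩ := mem_zpowers_iff.mp (mem_subgroupOf.mp h1)
    have hdy : (d * y) * r * (d * y)⁻¹ = r ^ j := by
      have hdd := hcen r h.hr
      have hdy' := hcen y h.hy
      calc (d * y) * r * (d * y)⁻¹ = (y * d) * r * (y * d)⁻¹ := by rw [hdy']
        _ = y * (d * r * d⁻¹) * y⁻¹ := by group
        _ = y * r * y⁻¹ := by rw [hdd, mul_inv_cancel_right]
        _ = r ^ j := h.tw
    have h2 : r = r ^ j := by
      have hi' : d * y = r ^ i := hi.symm
      rw [hi', ← zpow_neg, ← zpow_add_one, ← zpow_add, show i + 1 + -i = 1 by ring, zpow_one]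
        at hdy
      exact hdy
    have h3 : r ^ (j - 1) = 1 := by rw [zpow_sub_one, ← h2, mul_inv_cancel]
    rw [hord, hj] at h3
    have h4 := Int.le_of_dvd (by norm_num) (hcop.dvd_of_dvd_mul_right h3)
    have h5 : (4 : ℤ) ≤ 2 ^ n := by
      calc (4 : ℤ) = 2 ^ 2 := by norm_num
        _ ≤ 2 ^ n := pow_le_pow_right₀ (by norm_num) hn
    omega
  refine ⟨hdC, ?_⟩
  obtain ⟨i, rfl⟩ := mem_zpowers_iff.mp hdC
  have h1 : y * r ^ i * y⁻¹ = r ^ i := by rw [← hcen y h.hy, mul_inv_cancel_right]
  rw [← conj_zpow, h.tw, ← zpow_mul] at h1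
  have h2 : r ^ (i * (j - 1)) = 1 := by
    rw [show i * (j - 1) = j * i - i by ring, zpow_sub, h1, mul_inv_cancel]
  rw [hord, hj, ← mul_assoc] at h2
  rw [← zpow_add, hord, show i + i = i * 2 by ring]
  exact hcop.dvd_of_dvd_mul_right h2

theorem card_sq_eq_one_le_two (r : G) :
    Nat.card {d : zpowers r // d * d = 1} ≤ 2 := by
  classical
  haveI := Fintype.ofFinite (zpowers r)
  rw [Nat.card_eq_fintype_card, Fintype.card_subtype]
  have := IsCyclic.card_pow_eq_one_le (α := zpowers r) two_pos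
  simpa [pow_two] using this

/-- The reduction of a section to a Sylow subgroup of it. -/
theorem exists_sylow_section {N H : Subgroup G} (hsec : IsElemSection 2 N H) :
    ∃ Q : Subgroup G, Q ≤ H ∧ IsPGroup 2 Q ∧ IsElemSection 2 (N ⊓ Q) Q ∧
      N.relIndex H = (N ⊓ Q).relIndex Q := by
  classical
  haveI : Fact (Nat.Prime 2) := ⟨Nat.prime_two⟩
  obtain ⟨P⟩ := (inferInstance : Nonempty (Sylow 2 H))
  set Q := (P : Subgroup H).map H.subtype with hQ
  have hQH : Q ≤ H := map_subtype_le _
  refine ⟨Q, hQH, P.2.map _, ⟨inf_le_right, fun a ha b hb => ?_, fun a ha => ?_⟩, ?_⟩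
  · exact ⟨hsec.comm a (hQH ha) b (hQH hb),
      Q.mul_mem (Q.mul_mem (Q.mul_mem ha hb) (Q.inv_mem ha)) (Q.inv_mem hb)⟩
  · exact ⟨hsec.pow a (hQH ha), Q.pow_mem ha 2⟩
  · haveI : (N.subgroupOf H).Normal := ⟨fun v hv a => mem_subgroupOf.mpr (by
      simpa using hsec.conj_mem a.2 (mem_subgroupOf.mp hv))⟩
    have hq2 : IsPGroup 2 (H ⧸ N.subgroupOf H) := by
      intro q
      induction q using QuotientGroup.induction_on with
      | _ a =>
        refine ⟨1, (QuotientGroup.eq_one_iff _).mpr (mem_subgroupOf.mpr ?_)⟩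
        simpa using hsec.pow a a.2
    rw [inf_relIndex_right]
    refine le_antisymm ?_ (relIndex_le_of_le_right hQH (by
      rw [Subgroup.relIndex]; exact index_ne_zero_of_finite))
    show (N.subgroupOf H).index ≤ N.relIndex Q
    set I := N.subgroupOf H
    set π := QuotientGroup.mk' I
    have hsurj : (P : Subgroup H).map π = ⊤ := by
      have h1 : ((P : Subgroup H).map π).index ∣ (P : Subgroup H).index :=
        index_map_dvd _ (QuotientGroup.mk'_surjective I)
      obtain ⟨k, hk⟩ := hq2.index ((P : Subgroup H).map π)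
      rw [hk] at h1
      have h2 : k = 0 := by
        by_contra h0
        exact P.not_dvd_index (dvd_trans (dvd_pow_self 2 h0) h1)
      rw [h2, pow_zero] at hk
      exact index_eq_one.mp hk
    have h3 : I.relIndex (P : Subgroup H) = Nat.card ((P : Subgroup H).map π) := by
      rw [← relIndex_ker, QuotientGroup.ker_mk']
    rw [hsurj, card_top, ← index_eq_card] at h3
    rw [← h3, hQ, ← relIndex_comap]
    rfl

/-- The theorem. -/
theorem sectionalPRankLE_four (T D B : Subgroup G) (hT : IsPGroup 2 T)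
    (hprod : Cfsg.IsInternalDirectProduct D B T)
    (hD : (∃ m : ℕ, 2 ≤ m ∧ Nonempty (D ≃* DihedralGroup m)) ∨ Cfsg.IsQuasiDihedral D)
    (hB : IsKleinFour B)
    (hTb : ∀ b ∈ B, orderOf b = 2 →
      T ≤ centralizer ({b} : Set G) ∧ Odd (T.relIndex (centralizer ({b} : Set G)))) :
    Cfsg.SectionalPRankLE 2 4 G := by
  classical
  haveI : Fact (Nat.Prime 2) := ⟨Nat.prime_two⟩
  obtain ⟨hDT, hBT, hcomm, hdisj, hsup⟩ := hprod
  have hB4 : Nat.card B = 4 := hB.card_four
  have hBsq : ∀ b ∈ B, b * b = 1 := fun b hb =>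
    congrArg Subtype.val (IsKleinFour.mul_self (⟨b, hb⟩ : B))
  obtain ⟨S, hS⟩ := hT.exists_le_sylow
  have hcen : ∀ b ∈ B, b ≠ 1 → ∀ g ∈ (S : Subgroup G), g * b = b * g → g ∈ T := by
    intro b hb hb1 g hg hgb
    obtain ⟨hTC, hodd⟩ := hTb b hb
      (orderOf_eq_prime (by rw [pow_two]; exact hBsq b hb) hb1)
    set R := (S : Subgroup G) ⊓ centralizer ({b} : Set G)
    have hTR : T ≤ R := le_inf hS hTC
    obtain ⟨k, hk⟩ := (S.2.to_le (inf_le_left : R ≤ _)).index (T.subgroupOf R)
    have h1 : T.relIndex R ∣ T.relIndex (centralizer ({b} : Set G)) := by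
      rw [← relIndex_mul_relIndex T R _ hTR inf_le_right]
      exact Dvd.intro _ rfl
    have h2 : T.relIndex R = 1 := by
      rw [show T.relIndex R = 2 ^ k from hk] at h1 ⊢
      rcases Nat.eq_zero_or_pos k with rfl | h0
      · rfl
      · have := hodd
        rw [Nat.odd_iff] at this
        have h4 := (dvd_pow_self 2 (by omega : k ≠ 0)).trans h1
        omega
    exact relIndex_eq_one.mp h2 ⟨hg, mem_centralizer_singleton_iff.mpr hgb⟩
  obtain ⟨r, y, n, j, hn1, htw, hexp, hju⟩ :=
    exists_twisted (hT.to_le hDT) hD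
  have hcardT : Nat.card T = Nat.card D * 4 := by
    rw [← hsup, card_sup_of_commute hcomm hdisj, hB4]
  have hmemT : ∀ t ∈ T, ∃ d ∈ D, ∃ b ∈ B, t = d * b := by
    have hnorm : B ≤ normalizer (D : Set G) := by
      intro b hb
      rw [mem_normalizer_iff]
      intro d
      refine ⟨fun hd => by rwa [← hcomm d hd b hb, mul_inv_cancel_right], fun hd => ?_⟩
      have h := hcomm _ hd b hb
      have h' : b * d * b⁻¹ = d := by
        have h2 : b * d = b * (b * d * b⁻¹) := by rw [← h]; group
        exact (mul_left_cancel h2).symm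
      rwa [h'] at hd
    intro t ht
    rw [← hsup, ← SetLike.mem_coe, coe_mul_of_right_le_normalizer_left D B hnorm] at ht
    obtain ⟨d, hd, b, hb, rfl⟩ := Set.mem_mul.mp ht
    exact ⟨d, hd, b, hb, rfl⟩
  -- a bound for elementary sections of `S`
  have hkey : ∀ N H : Subgroup G, H ≤ (S : Subgroup G) → IsElemSection 2 N H →
      N.relIndex H ≤ 16 := by
    rcases eq_or_lt_of_le hn1 with hn | hn
    · -- `T` is elementary abelian of order 16
      have hcfg : Config (S : Subgroup G) T B := by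
        refine ⟨S.2, hS, hBT, fun t ht => ?_, ?_, hB4, hcen⟩
        · obtain ⟨d, hd, b, hb, rfl⟩ := hmemT t ht
          calc d * b * (d * b) = d * (b * d) * b := by group
            _ = d * (d * b) * b := by rw [hcomm d hd b hb]
            _ = 1 := by rw [← mul_assoc, hexp d hd hn.symm, one_mul, hBsq b hb]
        · rw [hcardT, htw.card, ← hn]
          norm_num
      exact fun N H hH hsec => hcfg.relIndex_le hH hsec
    · -- `S = T`
      obtain ⟨u, hu, hju'⟩ := hju hn
      have hcs := center_small htw hn hu hju'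
      have hST : T = (S : Subgroup G) := by
        by_contra hne
        obtain ⟨s, hsS, hsT, hsn, hs2⟩ := exists_sq_mem S.2 hS hne
        set E := T ⊓ centralizer (T : Set G) with hE
        have hEmem : ∀ e ∈ E, ∃ d ∈ zpowers r, d * d = 1 ∧ ∃ b ∈ B, e = d * b := by
          rintro e ⟨heT, heC⟩
          obtain ⟨d, hd, b, hb, rfl⟩ := hmemT e heT
          have hdc : ∀ v ∈ D, d * v = v * d := by
            intro v hv
            have h1 : v * (d * b) = d * b * v := mem_centralizer_iff.mp heC v (hDT hv)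
            rw [mul_assoc d b v, ← hcomm v hv b hb, ← mul_assoc, ← mul_assoc] at h1
            exact (mul_right_cancel h1).symm
          exact ⟨d, (hcs d hd hdc).1, (hcs d hd hdc).2, b, hb, rfl⟩
        have hCD : zpowers r ≤ D := zpowers_le.mpr htw.hr
        have hEsq : ∀ e ∈ E, e * e = 1 := by
          intro e he
          obtain ⟨d, hd, hd2, b, hb, rfl⟩ := hEmem e he
          calc d * b * (d * b) = d * (b * d) * b := by group
            _ = d * (d * b) * b := by rw [hcomm d (hCD hd) b hb]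
            _ = 1 := by rw [← mul_assoc, hd2, one_mul, hBsq b hb]
        have hE8 : Nat.card E ≤ 8 := by
          choose d hd hd2 b hb he using hEmem
          let g : E → {d : zpowers r // d * d = 1} × B := fun e =>
            (⟨⟨d e e.2, hd e e.2⟩, Subtype.ext (hd2 e e.2)⟩, ⟨b e e.2, hb e e.2⟩)
          have hg : Function.Injective g := by
            intro e₁ e₂ h
            simp only [g, Prod.mk.injEq, Subtype.mk.injEq] at h
            refine Subtype.ext ?_
            rw [he e₁ e₁.2, he e₂ e₂.2, h.1, h.2]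
          refine (Nat.card_le_card_of_injective g hg).trans ?_
          rw [Nat.card_prod, hB4]
          exact Nat.mul_le_mul_right 4 (card_sq_eq_one_le_two r)
        have hBE : B ≤ E := le_inf hBT fun b hb => mem_centralizer_iff.mpr fun t ht => by
          obtain ⟨d, hd, b', hb', rfl⟩ := hmemT t ht
          have hbb : b' * b = b * b' := by
            rw [← inv_eq_of_mul_eq_one_right (hBsq _ (B.mul_mem hb' hb)), mul_inv_rev,
              inv_eq_of_mul_eq_one_right (hBsq b hb), inv_eq_of_mul_eq_one_right (hBsq b' hb')]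
          rw [mul_assoc, hbb, ← mul_assoc, hcomm d hd b hb, mul_assoc]
        have hfix := sq_card_fixed E hEsq
          (fun v hv w hw => (mem_centralizer_iff.mp hw.2 v hv.1))
          s (fun v hv => ⟨(mem_normalizer_iff.mp hsn v).mp hv.1, mem_centralizer_iff.mpr fun t ht => by
            have ht' : s⁻¹ * t * s ∈ T := (mem_normalizer_iff''.mp hsn t).mp ht
            have h1 := mem_centralizer_iff.mp hv.2 _ ht'
            calc t * (s * v * s⁻¹) = s * (s⁻¹ * t * s * v) * s⁻¹ := by group
              _ = s * (v * (s⁻¹ * t * s)) * s⁻¹ := by rw [h1]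
              _ = s * v * s⁻¹ * t := by group⟩)
          (fun v hv => mem_centralizer_iff.mp hv.2 _ hs2)
        set F := E ⊓ centralizer ({s} : Set G)
        have h5 := card_mul_card_le F B E inf_le_left hBE
        rw [hB4] at h5
        have hE4 : 4 ≤ Nat.card E := hB4 ▸ card_le_of_le hBE
        obtain ⟨b, hb, hbF, hb1⟩ := exists_mem_inf_ne_one (A := F) (B := B) (by
          by_contra hc
          have h6 : Nat.card F * 4 ≤ Nat.card E := h5.trans (by
            calc Nat.card E * Nat.card ↥(F ⊓ B) ≤ Nat.card E * 1 :=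
                  Nat.mul_le_mul_left _ (by omega)
              _ = Nat.card E := mul_one _)
          have h7 : Nat.card F ≤ 2 := by omega
          have h8 := Nat.pow_le_pow_left h7 2
          have h9 := Nat.card_pos (α := ↥(F ⊓ B))
          nlinarith [hfix])
        exact hsT (hcen b hb hb1 s hsS (mem_centralizer_singleton_iff.mp hbF.2).symm)
      intro N H hH hsec
      rw [← hST] at hH
      have hCT : (zpowers r).relIndex T ≤ 8 := by
        have h1 := card_mul_relIndex_of_le (zpowers r) T ((zpowers_le.mpr htw.hr).trans hDT)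
        rw [hcardT, htw.card, Nat.card_zpowers, htw.ord, pow_succ, mul_assoc] at h1
        exact (Nat.eq_of_mul_eq_mul_left (pow_pos two_pos n) h1).le
      have hsec' : IsElemSection 2 (N ⊓ (H ⊓ zpowers r)) (H ⊓ zpowers r) :=
        ⟨inf_le_right, fun a ha b hb => ⟨hsec.comm a ha.1 b hb.1,
          (H ⊓ zpowers r).mul_mem ((H ⊓ zpowers r).mul_mem ((H ⊓ zpowers r).mul_mem ha hb)
            ((H ⊓ zpowers r).inv_mem ha)) ((H ⊓ zpowers r).inv_mem hb)⟩,
          fun a ha => ⟨hsec.pow a ha.1, (H ⊓ zpowers r).pow_mem ha 2⟩⟩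
      have h1 := relIndex_mul_relIndex (N ⊓ (H ⊓ zpowers r)) (H ⊓ zpowers r) H inf_le_right
        inf_le_left
      have h2 : N.relIndex H ≤ (N ⊓ (H ⊓ zpowers r)).relIndex H :=
        relIndex_le_of_le_left inf_le_left (by rw [Subgroup.relIndex]; exact index_ne_zero_of_finite)
      refine h2.trans (h1 ▸ ?_)
      refine le_trans (Nat.mul_le_mul (relIndex_le_two hsec' inf_le_right) ?_) (by norm_num : 2 * 8 ≤ 16)
      rw [inf_relIndex_left]
      exact (relIndex_le_of_le_right hH (by rw [Subgroup.relIndex]; exact index_ne_zero_of_finite)).trans hCT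
  refine sectionalPRankLE_of_forall fun N H hsec => ?_
  obtain ⟨Q, -, hQ, hsecQ, heq⟩ := exists_sylow_section hsec
  obtain ⟨P, hP⟩ := hQ.exists_le_sylow
  obtain ⟨g, hg⟩ := MulAction.exists_smul_eq G P S
  have hle : Q.map (MulAut.conj g).toMonoidHom ≤ (S : Subgroup G) := by
    rw [← hg, Sylow.coe_subgroup_smul, Subgroup.pointwise_smul_def]
    exact map_mono hP
  have := hkey _ _ hle (hsecQ.map (MulAut.conj g).toMonoidHom)
  rw [relIndex_map_map_of_injective _ _ (MulAut.conj g).injective] at this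
  rw [heq]
  exact this

end Cfsg.Agent.Lib.FourCentralizer
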